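import Groth.Agent.Lib.PicThick4.Roots
import Groth.Agent.Lib.PicThick4.Glue
import Groth.Agent.Lib.CubeField.AmpleSec
import Groth.Prelude.Def_Pic

/-!
# Lifting `n`-torsion invertible modules along thickenings
-/

set_option autoImplicit false
set_option linter.style.haveILetI false
set_option backward.isDefEq.respectTransparency false
set_option backward.isDefEq.respectTransparency.types false
universe u

open CategoryTheory AlgebraicGeometry TopologicalSpace Opposite

namespace Groth.Agent.PicThick4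

open Groth.Agent

theorem rs_rs {W : Scheme.{u}} {U V T : W.Opens} (h : V ≤ U) (h' : T ≤ V) (a : Γ(W, U)) :
    rs h' (rs h a) = rs (h'.trans h) a := CubeField.rs_rs h h' a

theorem app_rs {W Y : Scheme.{u}} (f : Y ⟶ W) {U V : W.Opens} (h : V ≤ U) (a : Γ(W, U)) :
    f.app V (rs h a) = rs (f.preimage_mono h) (f.app U a) := CubeField.app_rs f h a

/-- A unit times the unit section generates the structure module. -/
theorem isGen_unit_smul {W : Scheme.{u}} (U : W.Opens) (a : Γ(W, U)) (ha : IsUnit a) :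
    Twist.IsGen (Coh.structureModule W) U (a • M1.one U) := by
  intro V hV
  have h1 : ∀ r : Γ(W, V), r • M1.mres (Coh.structureModule W) hV (a • M1.one U) =
      (r * rs hV a) • M1.one V := fun r => by
    rw [M1.mres_smul, M1.mres_one, ← mul_smul]
  have h2 : ∀ z : Γ(W, V), z • M1.one V = (show Γ(Coh.structureModule W, V) from z) := fun z =>
    mul_one z
  simp only [h1, h2]
  exact ((ha.map (rs hV)).unit).mulRight_bijective

/-- `n`-torsion invertible modules lift along thickenings when `n` is invertible. -/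
theorem exists_lift {X X' : Scheme.{u}} (i : X ⟶ X') [IsClosedImmersion i] [Surjective i] (n : ℕ)
    (hu : IsUnit (n : Γ(X, ⊤))) (L : X.Modules) (hL : PicF.IsInvertible L)
    (hφ : Nonempty (CohB1.tensorPow L n ≅ Coh.structureModule X)) :
    ∃ L' : X'.Modules, PicF.IsInvertible L' ∧
      Nonempty ((Scheme.Modules.pullback i).obj L' ≅ L) ∧
      Nonempty (CohB1.tensorPow L' n ≅ Coh.structureModule X') := by
  classical
  obtain ⟨φ⟩ := hφ
  -- generators on preimages of affine opens
  have hex : ∀ x : X, ∃ (D : X'.Opens) (e : Γ(L, i ⁻¹ᵁ D)), i x ∈ D ∧ IsAffineOpen D ∧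
      Twist.IsGen L (i ⁻¹ᵁ D) e := by
    intro x
    obtain ⟨U, e, hxU, -, -, he⟩ := Amp.exists_isGenerator hL (V := ⊤) (x := x) trivial
    obtain ⟨O, hO, hOU⟩ := i.isClosedEmbedding.isInducing.isOpen_iff.mp U.2
    obtain ⟨D, hD, hxD, hDO⟩ := exists_isAffineOpen_mem_and_subset (X := X') (x := i x) (U := ⟨O, hO⟩)
      (show i x ∈ O by rw [← Set.mem_preimage, hOU]; exact hxU)
    have hle : i ⁻¹ᵁ D ≤ U := fun z hz => by
      show z ∈ (U : Set X)
      rw [show (U : Set X) = i ⁻¹' O from hOU.symm]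
      exact hDO hz
    exact ⟨D, M1.mres L hle e, hxD, hD, Twist.IsGen.mres he hle⟩
  choose D e hxD hD he using hex
  have hcov' : ⨆ x, D x = ⊤ := top_le_iff.1 fun y _ => by
    obtain ⟨x, rfl⟩ := i.surjective y
    exact Opens.mem_iSup.2 ⟨x, hxD x⟩
  have hcov : ⨆ x, i ⁻¹ᵁ D x = ⊤ := by rw [← Scheme.Hom.preimage_iSup, hcov', Scheme.Hom.preimage_top]
  -- transition functions
  choose g hg using fun x y => (he x (i ⁻¹ᵁ (D x ⊓ D y)) (i.preimage_mono inf_le_left)).2
    (M1.mres L (i.preimage_mono inf_le_right) (e y))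
  simp only at hg
  have hres : ∀ x y (T : X.Opens) (hx : T ≤ i ⁻¹ᵁ D x) (hy : T ≤ i ⁻¹ᵁ D y),
      rs (le_inf hx hy) (g x y) • M1.mres L hx (e x) = M1.mres L hy (e y) := fun x y T hx hy => by
    have h := congrArg (M1.mres L (le_inf hx hy : T ≤ i ⁻¹ᵁ (D x ⊓ D y))) (hg x y)
    erw [M1.mres_smul, M1.mres_mres, M1.mres_mres] at h
    exact h
  -- coordinates of a global generator of the power
  let σ : Γ(CohB1.tensorPow L n, ⊤) := φ.inv.app ⊤ (M1.one ⊤)
  have hpw : ∀ x, Twist.IsGen (CohB1.tensorPow L n) (i ⁻¹ᵁ D x) (Amp.pw (e x) n) := fun x =>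
    Twist.isGen_of_stalk fun _ hz => Amp.gen_pw hL hz (e x) n ((he x).stalk hz)
  choose s hs using fun x => (hpw x _ le_rfl).2 (M1.mres _ (le_top : i ⁻¹ᵁ D x ≤ ⊤) σ)
  simp only [M1.mres_id] at hs
  have hsu : ∀ x, IsUnit (s x) := by
    intro x
    have hone : φ.inv.app (i ⁻¹ᵁ D x) (M1.one _) = s x • Amp.pw (e x) n := by
      rw [hs x, ← M1.mres_one (le_top : i ⁻¹ᵁ D x ≤ ⊤)]
      exact M1.app_mres φ.inv _ _
    obtain ⟨r, hr⟩ : ∃ r : Γ(X, i ⁻¹ᵁ D x),
        (show Γ(Coh.structureModule X, i ⁻¹ᵁ D x) from r) = φ.hom.app _ (Amp.pw (e x) n) := ⟨_, rfl⟩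
    have h2 := congrArg (φ.hom.app (i ⁻¹ᵁ D x)) hone
    rw [Scheme.Modules.Hom.app_smul, ← hr] at h2
    have h3 : φ.hom.app (i ⁻¹ᵁ D x) (φ.inv.app (i ⁻¹ᵁ D x) (M1.one _)) = M1.one _ := by
      rw [← ConcreteCategory.comp_apply, ← Scheme.Modules.Hom.comp_app, φ.inv_hom_id]
      rfl
    rw [h3] at h2
    exact IsUnit.of_mul_eq_one _ h2.symm
  have hsc : ∀ x y, rs (i.preimage_mono (inf_le_left : D x ⊓ D y ≤ D x)) (s x) =
      g x y ^ n * rs (i.preimage_mono (inf_le_right : D x ⊓ D y ≤ D y)) (s y) := by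
    intro x y
    refine (hpw x _ (i.preimage_mono inf_le_left)).1 ?_
    show rs _ (s x) • M1.mres _ (i.preimage_mono inf_le_left) (Amp.pw (e x) n) =
      (g x y ^ n * rs _ (s y)) • M1.mres _ (i.preimage_mono inf_le_left) (Amp.pw (e x) n)
    have hx := congrArg (M1.mres _ (i.preimage_mono (inf_le_left : D x ⊓ D y ≤ D x))) (hs x)
    have hy := congrArg (M1.mres _ (i.preimage_mono (inf_le_right : D x ⊓ D y ≤ D y))) (hs y)
    rw [M1.mres_smul, M1.mres_mres] at hx hy
    rw [mul_comm, mul_smul]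
    refine hx.trans (hy.symm.trans ?_)
    congr 1
    refine (Amp.res_pw _ (e y) n).trans ?_
    show Amp.pw (M1.mres L _ (e y)) n = _
    rw [← hg x y, Amp.pw_smul]
    exact congrArg (g x y ^ n • ·) (Amp.res_pw _ (e x) n).symm
  have hgu : ∀ x y, IsUnit (g x y) := by
    intro x y
    have h1 : g x y * rs (i.preimage_mono (le_inf inf_le_right inf_le_left : D x ⊓ D y ≤ D y ⊓ D x)) (g y x) = 1 := by
      refine (he x _ (i.preimage_mono inf_le_left)).1 ?_
      show (_ * _) • M1.mres L (i.preimage_mono inf_le_left) (e x) = (1 : Γ(X, _)) • _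
      rw [one_smul, mul_comm, mul_smul, hg x y]
      exact hres y x _ (i.preimage_mono inf_le_right) (i.preimage_mono inf_le_left)
    exact IsUnit.of_mul_eq_one _ h1
  -- lifts
  choose S hS using fun x => i.app_surjective (D x) (hD x) (s x)
  have hSu : ∀ x, IsUnit (S x) := fun x => isUnit_of_app i _ (by rw [hS]; exact hsu x)
  choose T hT using fun x => (hSu x).exists_right_inv
  have hlift : ∀ x y, ∃ r : Γ(X', D x ⊓ D y),
      r ^ n = rs (inf_le_left : D x ⊓ D y ≤ D x) (S x) * rs inf_le_right (T y) ∧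
        i.app (D x ⊓ D y) r = g x y := by
    intro x y
    refine root_exists i hu _ _ (hgu x y) ?_
    rw [map_mul, app_rs, app_rs, hS]
    refine (congrArg (· * _) (hsc x y)).trans ?_
    show g x y ^ n * rs _ (s y) * rs _ (i.app (D y) (T y)) = g x y ^ n
    have h1 : s y * i.app (D y) (T y) = 1 := by rw [← hS y, ← map_mul, hT, map_one]
    refine (mul_assoc _ _ _).trans ?_
    refine Eq.trans (congrArg (g x y ^ n * ·) ?_) (mul_one _)
    exact ((map_mul (rs (i.preimage_mono (inf_le_right : D x ⊓ D y ≤ D y))) (s y) _).symm.trans (by rw [h1, map_one]))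
  choose G hGn hGv using hlift
  have hun : ∀ V : X'.Opens, IsUnit (n : Γ(X, i ⁻¹ᵁ V)) := fun V => by
    simpa using hu.map (rs (le_top : i ⁻¹ᵁ V ≤ ⊤))
  have hunit : ∀ x y, IsUnit (i.app (D x ⊓ D y) (G x y)) := fun x y => by rw [hGv]; exact hgu x y
  let c : Coc X' X :=
    { V := D
      g := G
      refl := fun x => by
        refine root_unique i (hun _) ?_ (by rw [map_one]; exact isUnit_one) ?_
        · rw [hGv, map_one]
          refine (he x _ (i.preimage_mono inf_le_left)).1 ?_
          show g x x • _ = (1 : Γ(X, _)) • _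
          rw [one_smul]
          exact hg x x
        · rw [hGn, one_pow]
          exact (map_mul (rs (inf_le_left : D x ⊓ D x ≤ D x)) (S x) (T x)).symm.trans (by rw [hT, map_one])
      comp := fun x y z U hx hy hz => by
        refine root_unique i (hun _) ?_ ?_ ?_
        · rw [map_mul, app_rs, app_rs, app_rs, hGv, hGv, hGv]
          refine (he x (i ⁻¹ᵁ U) (i.preimage_mono hx)).1 ?_
          show (_ * _) • M1.mres L (i.preimage_mono hx) (e x) = _ • M1.mres L (i.preimage_mono hx) (e x)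
          rw [mul_comm, mul_smul]
          exact (congrArg _ (hres x y _ (i.preimage_mono hx) (i.preimage_mono hy))).trans
            ((hres y z _ (i.preimage_mono hy) (i.preimage_mono hz)).trans
              (hres x z _ (i.preimage_mono hx) (i.preimage_mono hz)).symm)
        · rw [app_rs]; exact (hunit x z).map _
        · rw [mul_pow, ← map_pow, ← map_pow, ← map_pow, hGn, hGn, hGn, map_mul, map_mul, map_mul,
            rs_rs, rs_rs, rs_rs, rs_rs, rs_rs, rs_rs]
          have h1 : rs hy (T y) * rs hy (S y) = 1 := by rw [← map_mul, mul_comm, hT, map_one]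
          linear_combination (rs hx (S x) * rs hz (T z)) * h1 }
  obtain ⟨L', hL', E, hE, hEt⟩ := exists_module_triv c hcov'
  refine ⟨L', hL', ?_, ?_⟩
  · let P := fun x => M2.pullSec i L' (E x)
    have hP : ∀ x, Twist.IsGen _ (i ⁻¹ᵁ D x) (P x) := fun x => (hE x).pullback i
    refine ⟨(Twist.exists_iso_of_gen (fun x => i ⁻¹ᵁ D x) hcov P e hP he ?_).choose⟩
    intro x y V hx hy t ht
    have key : ∀ {U W : X'.Opens} (h : W ≤ U) (r : Γ(L', U)),
        M1.mres ((Scheme.Modules.pullback i).obj L') (i.preimage_mono h) (M2.pullSec i L' r) =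
          M2.pullSec i L' (M1.mres L' h r) := fun h r =>
      (M1.app_mres ((Scheme.Modules.pullbackPushforwardAdjunction i).unit.app L') h r).symm
    have h1 : M1.mres _ (i.preimage_mono (inf_le_right : D x ⊓ D y ≤ D y)) (P y) =
        g x y • M1.mres _ (i.preimage_mono (inf_le_left : D x ⊓ D y ≤ D x)) (P x) := by
      refine (key inf_le_right _).trans ?_
      rw [hEt x y, M2.pullSec_smul]
      show i.app (D x ⊓ D y) (G x y) • _ = _
      rw [hGv]
      exact congrArg (g x y • ·) (key inf_le_left (E x)).symm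
    have h2 := congrArg (M1.mres _ (le_inf hx hy : V ≤ i ⁻¹ᵁ D x ⊓ i ⁻¹ᵁ D y)) h1
    erw [M1.mres_mres, M1.mres_smul, M1.mres_mres] at h2
    have h3 : t = rs (le_inf hx hy) (g x y) := (hP x V hx).1 (ht.symm.trans h2)
    rw [h3]
    exact (hres x y V hx hy).symm
  · let a := fun x => T x • M1.one (X := X') (D x)
    have hTu : ∀ x, IsUnit (T x) := fun x => IsUnit.of_mul_eq_one (S x) (by rw [mul_comm]; exact hT x)
    have hp : ∀ x, Twist.IsGen (CohB1.tensorPow L' n) (D x) (Amp.pw (E x) n) := fun x =>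
      Twist.isGen_of_stalk fun _ hz => Amp.gen_pw hL' hz (E x) n ((hE x).stalk hz)
    refine ⟨(Twist.exists_iso_of_gen D hcov' (fun x => Amp.pw (E x) n) a hp
      (fun x => isGen_unit_smul _ _ (hTu x)) ?_).choose⟩
    intro x y V hx hy t ht
    have h1 : M1.mres _ (inf_le_right : D x ⊓ D y ≤ D y) (Amp.pw (E y) n) =
        G x y ^ n • M1.mres _ (inf_le_left : D x ⊓ D y ≤ D x) (Amp.pw (E x) n) := by
      refine (Amp.res_pw _ (E y) n).trans ?_
      show Amp.pw (M1.mres L' _ (E y)) n = _
      rw [hEt x y, Amp.pw_smul]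
      exact congrArg (G x y ^ n • ·) (Amp.res_pw _ (E x) n).symm
    have h2 := congrArg (M1.mres _ (le_inf hx hy : V ≤ D x ⊓ D y)) h1
    rw [M1.mres_mres, M1.mres_smul, M1.mres_mres] at h2
    have h3 : t = rs (le_inf hx hy) (G x y ^ n) := (hp x V hx).1 (ht.symm.trans h2)
    simp only [a]
    rw [h3, hGn, M1.mres_smul, M1.mres_smul, M1.mres_one, M1.mres_one, ← mul_smul, map_mul, rs_rs, rs_rs]
    congr 1
    have hST : rs hx (S x) * rs hx (T x) = 1 := by rw [← map_mul, hT, map_one]
    show rs hy (T y) = rs hx (S x) * rs hy (T y) * rs hx (T x)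
    linear_combination (-rs hy (T y)) * hST

end Groth.Agent.PicThick4
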