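import Groth.Prelude.Def_MoreMor
import Mathlib

/-!
# Roots of units along thickenings
-/

set_option autoImplicit false
set_option backward.isDefEq.respectTransparency false
set_option backward.isDefEq.respectTransparency.types false
universe u

open CategoryTheory AlgebraicGeometry TopologicalSpace Opposite

namespace Groth.Agent.PicThick4

variable {X X' : Scheme.{u}} (i : X ⟶ X') [IsClosedImmersion i] [Surjective i]

/-- Units are detected on the thin scheme. -/
theorem isUnit_of_app {W : X'.Opens} (s : Γ(X', W)) (h : IsUnit (i.app W s)) : IsUnit s := by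
  refine RingedSpace.isUnit_of_isUnit_germ X'.toRingedSpace W s fun y hy => ?_
  obtain ⟨x, rfl⟩ := i.surjective y
  refine (isUnit_map_iff (i.stalkMap x).hom _).1 ?_
  rw [Scheme.Hom.germ_stalkMap_apply]
  exact h.map _

/-- Sections killed on the thin scheme are nilpotent on quasi-compact opens. -/
theorem isNilpotent_of_app {W : X'.Opens} (hW : IsCompact (W : Set X')) (s : Γ(X', W))
    (h : i.app W s = 0) : IsNilpotent s := by
  refine (Scheme.isNilpotent_iff_basicOpen_eq_bot_of_isCompact hW s).2 ?_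
  ext y
  refine ⟨fun hy => ?_, fun hy => hy.elim⟩
  obtain ⟨x, rfl⟩ := i.surjective y
  have hx : x ∈ i ⁻¹ᵁ X'.basicOpen s := hy
  rw [Scheme.preimage_basicOpen, h, Scheme.basicOpen_zero] at hx
  exact hx.elim

/-- Two `n`-th roots of the same unit agreeing on the thin scheme are equal. -/
theorem root_unique {n : ℕ} {W : X'.Opens} (hu : IsUnit (n : Γ(X, i ⁻¹ᵁ W))) {r r' : Γ(X', W)}
    (h : i.app W r = i.app W r') (hr : IsUnit (i.app W r')) (hn : r ^ n = r' ^ n) : r = r' := by
  obtain ⟨v, hv⟩ := isUnit_of_app i r' hr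
  let e : Γ(X', W) := r * (↑v⁻¹ : Γ(X', W))
  have he1 : e ^ n = 1 := by
    rw [mul_pow, hn, ← mul_pow, ← hv, Units.mul_inv, one_pow]
  have happ : i.app W e = 1 := by
    rw [map_mul, h, ← map_mul, ← hv, Units.mul_inv, map_one]
  have hs : IsUnit (∑ k ∈ Finset.range n, e ^ k) := by
    refine isUnit_of_app i _ ?_
    rw [map_sum]
    simpa [happ] using hu
  have h0 : (e - 1) * ∑ k ∈ Finset.range n, e ^ k = 0 := by
    rw [mul_geom_sum, he1, sub_self]
  have he : e = 1 := sub_eq_zero.1 (hs.mul_left_eq_zero.1 h0)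
  calc r = e * v := by rw [mul_assoc, Units.inv_mul, mul_one]
    _ = r' := by rw [he, one_mul, hv]

theorem root_exists_affine {n : ℕ} {W : X'.Opens} (hW : IsAffineOpen W)
    (hu : IsUnit (n : Γ(X, i ⁻¹ᵁ W))) (u : Γ(X', W)) (v : Γ(X, i ⁻¹ᵁ W)) (hv : IsUnit v)
    (h : i.app W u = v ^ n) : ∃ r : Γ(X', W), r ^ n = u ∧ i.app W r = v := by
  obtain ⟨r₀, rfl⟩ := i.app_surjective W hW v
  let P : Polynomial Γ(X', W) := Polynomial.X ^ n - Polynomial.C u
  have hP : IsNilpotent (Polynomial.aeval r₀ P) :=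
    isNilpotent_of_app i hW.isCompact _ (by simp [P, h])
  have hP' : IsUnit (Polynomial.aeval r₀ (Polynomial.derivative P)) := by
    have h1 : IsUnit (n : Γ(X', W)) := isUnit_of_app i _ (by rw [map_natCast]; exact hu)
    have h2 : IsUnit r₀ := isUnit_of_app i _ hv
    simpa [P, Polynomial.derivative_X_pow] using h1.mul (h2.pow (n - 1))
  obtain ⟨r, ⟨hnil, hr⟩, -⟩ := P.existsUnique_nilpotent_sub_and_aeval_eq_zero hP hP'
  have hr' : r ^ n = u := by simpa [P, sub_eq_zero] using hr
  refine ⟨r, hr', ?_⟩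
  -- `r` and `r₀` agree on the thin scheme, having the same `n`-th power and nilpotent difference
  have hd : IsNilpotent (i.app W r₀ - i.app W r) := by rw [← map_sub]; exact hnil.map _
  have hpow : i.app W r ^ n = i.app W r₀ ^ n := by rw [← map_pow, hr', h]
  set a := i.app W r₀
  set b := i.app W r
  have hb : IsUnit b := by
    have := hd.neg.isUnit_add_left_of_commute hv (Commute.all _ _)
    simpa using this
  have hs : IsUnit (∑ k ∈ Finset.range n, b ^ k * a ^ (n - 1 - k)) := by
    have h3 : IsNilpotent ((∑ k ∈ Finset.range n, b ^ k * a ^ (n - 1 - k)) - (n : Γ(X, i ⁻¹ᵁ W)) * a ^ (n - 1)) := by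
      have hn' : (n : Γ(X, i ⁻¹ᵁ W)) * a ^ (n - 1) = ∑ k ∈ Finset.range n, a ^ k * a ^ (n - 1 - k) := by
        rw [Finset.sum_congr rfl fun k hk => by rw [← pow_add, Nat.add_sub_cancel' (by
          have := Finset.mem_range.1 hk; omega)]]
        rw [Finset.sum_const, Finset.card_range, nsmul_eq_mul]
      rw [hn', ← Finset.sum_sub_distrib]
      refine isNilpotent_sum fun k _ => ?_
      rw [← sub_mul]
      obtain ⟨c, hc⟩ := sub_dvd_pow_sub_pow b a k
      rw [hc, mul_assoc]
      have hd' : IsNilpotent (b - a) := by simpa using hd.neg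
      exact (Commute.all _ _).isNilpotent_mul_right hd'
    have := h3.isUnit_add_left_of_commute (hu.mul (hv.pow (n - 1))) (Commute.all _ _)
    simpa using this
  have h0 := geom_sum₂_mul b a n
  rw [hpow, sub_self] at h0
  exact sub_eq_zero.1 (hs.mul_right_eq_zero.1 h0)

/-- Existence of `n`-th roots with prescribed restriction to the thin scheme. -/
theorem root_exists {n : ℕ} (hu : IsUnit (n : Γ(X, ⊤))) {W : X'.Opens} (u : Γ(X', W))
    (v : Γ(X, i ⁻¹ᵁ W)) (hv : IsUnit v) (h : i.app W u = v ^ n) :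
    ∃ r : Γ(X', W), r ^ n = u ∧ i.app W r = v := by
  have hun : ∀ V : X'.Opens, IsUnit (n : Γ(X, i ⁻¹ᵁ V)) := fun V => by
    simpa using hu.map (X.presheaf.map (homOfLE (le_top : i ⁻¹ᵁ V ≤ ⊤)).op).hom
  choose D hD hxD hDW' using fun x : W =>
    exists_isAffineOpen_mem_and_subset (X := X') (x := x.1) (U := W) x.2
  have hDW : ∀ x, D x ≤ W := hDW'
  have hnat : ∀ {U V : X'.Opens} (hVU : V ≤ U) (s : Γ(X', U)),
      i.app V (X'.presheaf.map (homOfLE hVU).op s) =
        X.presheaf.map (homOfLE (i.preimage_mono hVU)).op (i.app U s) := fun hVU s =>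
    ConcreteCategory.congr_hom (i.naturality (homOfLE hVU).op) s
  have hex := fun x => root_exists_affine i (hD x) (hun _) (X'.presheaf.map (homOfLE (hDW x)).op u)
    (X.presheaf.map (homOfLE (i.preimage_mono (hDW x))).op v) (hv.map _)
    (by rw [hnat, h, map_pow])
  choose r hrn hrv using hex
  obtain ⟨R, hR, -⟩ := X'.sheaf.existsUnique_gluing' D W (fun x => homOfLE (hDW x))
    (fun x hx => Opens.mem_iSup.2 ⟨⟨x, hx⟩, hxD ⟨x, hx⟩⟩) r fun x y => by
      change X'.presheaf.map (Opens.infLELeft _ _).op (r x) = X'.presheaf.map (Opens.infLERight _ _).op (r y)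
      refine root_unique i (hun _) ?_ ?_ ?_
      · rw [show Opens.infLELeft (D x) (D y) = homOfLE inf_le_left from rfl,
          show Opens.infLERight (D x) (D y) = homOfLE inf_le_right from rfl, hnat, hnat, hrv, hrv,
          ← ConcreteCategory.comp_apply, ← ConcreteCategory.comp_apply, ← Functor.map_comp,
          ← Functor.map_comp]
        rfl
      · rw [show Opens.infLERight (D x) (D y) = homOfLE inf_le_right from rfl, hnat, hrv]
        exact (hv.map _).map _
      · rw [← map_pow, ← map_pow, hrn, hrn, ← ConcreteCategory.comp_apply,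
          ← ConcreteCategory.comp_apply, ← Functor.map_comp, ← Functor.map_comp]
        rfl
  have hR' : ∀ x, X'.presheaf.map (homOfLE (hDW x)).op (R : Γ(X', W)) = r x := hR
  refine ⟨R, ?_, ?_⟩
  · refine TopCat.Sheaf.eq_of_locally_eq' X'.sheaf D W (fun x => homOfLE (hDW x))
      (fun x hx => Opens.mem_iSup.2 ⟨⟨x, hx⟩, hxD ⟨x, hx⟩⟩) _ _ fun x => ?_
    change X'.presheaf.map _ (R ^ n) = X'.presheaf.map _ u
    rw [map_pow, hR' x, hrn]
  · refine TopCat.Sheaf.eq_of_locally_eq' X.sheaf (fun x => i ⁻¹ᵁ D x) (i ⁻¹ᵁ W)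
      (fun x => homOfLE (i.preimage_mono (hDW x)))
      (fun z hz => Opens.mem_iSup.2 ⟨⟨i z, hz⟩, hxD ⟨i z, hz⟩⟩) _ _ fun x => ?_
    change X.presheaf.map _ (i.app W R) = X.presheaf.map _ v
    rw [← hnat (hDW x), hR' x, hrv]

end Groth.Agent.PicThick4
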